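import Groth.Agent.ResProp.EF.K573.Pairing
import Groth.Agent.DRing.K226.DualCx
import Groth.Agent.Dcoh.DualCx
import Groth.Agent.PerfB.RingKFlat
import Mathlib.Algebra.Homology.HomotopyCategory.HomComplexSingle

/-!
# Representability of `N ↦ H^0(P ⊗ N)` for a bounded complex `P` of finite projective modules
-/

set_option autoImplicit false

universe u

open CategoryTheory CategoryTheory.Limits MonoidalCategory HomologicalComplex

namespace Groth.Agent.ResProp.EF.K573

open Groth.Agent.PerfB.RingKFlat K226.DualCx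

variable {A : Type u} [CommRing A]

/-- The unit complex. -/
noncomputable abbrev un (A : Type u) [CommRing A] : CochainComplex (ModuleCat.{u} A) ℤ :=
  𝟙_ (CochainComplex (ModuleCat.{u} A) ℤ)

lemma un_d (j : ℤ) : (un A).d 0 j = 0 :=
  HomologicalComplex.single_obj_d _ _ _ _ _

/-- the element `1` of the unit complex -/
noncomputable def one (A : Type u) [CommRing A] : (un A).X 0 := unitEl (1 : A)

/-- maps from the unit complex are determined by the image of `1` -/
lemma un_ext {E : CochainComplex (ModuleCat.{u} A) ℤ} {x y : un A ⟶ E}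
    (h : (x.f 0).hom (one A) = (y.f 0).hom (one A)) : x = y := by
  ext n z
  by_cases hn : n = 0
  · subst hn
    have h1 : z = ((unitIso A).hom.hom z : A) • one A := by
      conv_lhs => rw [← unitEl_hom z]
      change (unitIso A).inv.hom _ = _ • (unitIso A).inv.hom _
      rw [← map_smul]
      congr 1
      exact (mul_one _).symm
    rw [h1, map_smul, map_smul, h]
  · have := ModuleCat.subsingleton_of_isZero (isZero_unitCx (A := A) (n := n) hn)
    rw [Subsingleton.elim z 0, map_zero, map_zero]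

section Cls

variable {E F : CochainComplex (ModuleCat.{u} A) ℤ}

lemma f_one_cocycle (x : un A ⟶ E) : (E.d 0 1).hom ((x.f 0).hom (one A)) = 0 := by
  have h := x.comm 0 1
  rw [un_d, zero_comp] at h
  exact congr($(h).hom (one A))

/-- The map from the unit complex attached to a cocycle of degree `0`. -/
noncomputable def ofCocycle (e : E.X 0) (he : (E.d 0 1).hom e = 0) : un A ⟶ E :=
  mkHomFromSingle (ModuleCat.ofHom (LinearMap.toSpanSingleton A (E.X 0) e)) (fun k hk => by
    obtain rfl : 1 = k := by simpa using hk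
    ext
    change (E.d 0 1).hom ((1 : A) • e) = 0
    rw [one_smul, he])

lemma ofCocycle_one (e : E.X 0) (he : (E.d 0 1).hom e = 0) : ((ofCocycle e he).f 0).hom (one A) = e := by
  have h : (ofCocycle e he).f 0 = (unitIso A).hom ≫
    ModuleCat.ofHom (LinearMap.toSpanSingleton A (E.X 0) e) := mkHomFromSingle_f _ _
  rw [h]
  have h2 : (unitIso A).hom.hom (one A) = (1 : A) := congr($((unitIso A).inv_hom_id).hom (1 : A))
  change (LinearMap.toSpanSingleton A (E.X 0) e) ((unitIso A).hom.hom (one A)) = e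
  rw [h2]
  exact one_smul _ _

/-- `1` as a cycle. -/
noncomputable def oneC (A : Type u) [CommRing A] : (un A).cycles 0 :=
  ((un A).liftCycles (𝟙 ((un A).X 0)) 1 (by simp) (by rw [un_d]; simp)).hom (one A)

lemma iCycles_oneC : ((un A).iCycles 0).hom (oneC A) = one A := by
  have h := (un A).liftCycles_i (𝟙 ((un A).X 0)) 1 (by simp) (by rw [un_d]; simp)
  exact congr($(h).hom (one A))

/-- The cohomology class of a map from the unit complex. -/
noncomputable def cls (x : un A ⟶ E) : E.homology 0 :=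
  (homologyMap x 0).hom (((un A).homologyπ 0).hom (oneC A))

lemma cls_eq (x : un A ⟶ E) : cls x = (E.homologyπ 0).hom ((cyclesMap x 0).hom (oneC A)) := by
  have h := homologyπ_naturality x 0
  exact congr($(h).hom (oneC A))

lemma iCycles_cyclesMap (x : un A ⟶ E) :
    (E.iCycles 0).hom ((cyclesMap x 0).hom (oneC A)) = (x.f 0).hom (one A) := by
  have h := cyclesMap_i x 0
  rw [← iCycles_oneC]
  exact congr($(h).hom (oneC A))

lemma cls_comp (x : un A ⟶ E) (φ : E ⟶ F) : cls (x ≫ φ) = (homologyMap φ 0).hom (cls x) := by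
  rw [cls, homologyMap_comp]
  rfl

lemma exists_cls (c : E.homology 0) : ∃ x : un A ⟶ E, cls x = c := by
  obtain ⟨z, rfl⟩ := (ModuleCat.epi_iff_surjective (E.homologyπ 0)).1 inferInstance c
  have hz : (E.d 0 1).hom ((E.iCycles 0).hom z) = 0 := congr($(E.iCycles_d 0 1).hom z)
  refine ⟨ofCocycle _ hz, ?_⟩
  rw [cls_eq]
  congr 1
  apply (ModuleCat.mono_iff_injective (E.iCycles 0)).1 inferInstance
  exact (iCycles_cyclesMap _).trans (ofCocycle_one _ _)

lemma exists_of_cls_eq (x y : un A ⟶ E) (h : cls x = cls y) :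
    ∃ w : E.X (-1), (x.f 0).hom (one A) = (E.d (-1) 0).hom w + (y.f 0).hom (one A) := by
  rw [cls_eq, cls_eq, ← sub_eq_zero, ← map_sub] at h
  have hex := ShortComplex.exact_of_g_is_cokernel (ShortComplex.mk _ _ (E.toCycles_comp_homologyπ (-1) 0))
    (E.homologyIsCokernel (-1) 0 (by simp))
  obtain ⟨w, hw⟩ := (ShortComplex.moduleCat_exact_iff _).1 hex _ h
  refine ⟨w, ?_⟩
  have h1 := congrArg (E.iCycles 0).hom hw
  rw [map_sub] at h1
  have h2 : (E.iCycles 0).hom ((E.toCycles (-1) 0).hom w) = (E.d (-1) 0).hom w :=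
    congr($(E.toCycles_i (-1) 0).hom w)
  rw [iCycles_cyclesMap, iCycles_cyclesMap] at h1
  exact eq_add_of_sub_eq (h1.symm.trans h2)

/-- Two maps from a single complex which differ by a boundary are homotopic. -/
lemma homotopy_of_single {C : Type*} [Category* C] [Preadditive C] [HasZeroObject C] {X : C}
    {E : CochainComplex C ℤ} (x y : (CochainComplex.singleFunctor C 0).obj X ⟶ E) (w : X ⟶ E.X (-1))
    (h : (singleObjXSelf (ComplexShape.up ℤ) 0 X).inv ≫ x.f 0 =
      w ≫ E.d (-1) 0 + (singleObjXSelf (ComplexShape.up ℤ) 0 X).inv ≫ y.f 0) : Nonempty (Homotopy x y) := by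
  refine ⟨(CochainComplex.HomComplex.Cochain.equivHomotopy x y).symm
    ⟨CochainComplex.HomComplex.Cochain.fromSingleMk w (by lia), ?_⟩⟩
  rw [CochainComplex.HomComplex.Cochain.δ_fromSingleMk (f := w) (n' := 0) (q' := 0) (h' := by lia)]
  apply (CochainComplex.HomComplex.Cochain.fromSingleEquiv (X := X) (K := E) (p := 0) (q := 0) (n := 0)
    (by lia)).injective
  rw [map_add, CochainComplex.HomComplex.Cochain.fromSingleEquiv_fromSingleMk]
  change (singleObjXSelf (ComplexShape.up ℤ) 0 X).inv ≫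
    (CochainComplex.HomComplex.Cochain.ofHom x).v 0 0 _ = _ +
      (singleObjXSelf (ComplexShape.up ℤ) 0 X).inv ≫ (CochainComplex.HomComplex.Cochain.ofHom y).v 0 0 _
  rw [CochainComplex.HomComplex.Cochain.ofHom_v, CochainComplex.HomComplex.Cochain.ofHom_v]
  exact h

/-- Two maps from the unit complex with the same class are homotopic. -/
lemma nonempty_homotopy (x y : un A ⟶ E) (h : cls x = cls y) : Nonempty (Homotopy x y) := by
  obtain ⟨w, hw⟩ := exists_of_cls_eq x y h
  refine homotopy_of_single (X := 𝟙_ (ModuleCat.{u} A)) x y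
    (ModuleCat.ofHom (LinearMap.toSpanSingleton A (E.X (-1)) w)) ?_
  ext
  change (x.f 0).hom (one A) = (E.d (-1) 0).hom ((1 : A) • w) + (y.f 0).hom (one A)
  rw [one_smul, hw]

end Cls

section Rep

open Groth.Agent.Dcoh.CxFun

variable (P Q : CochainComplex (ModuleCat.{u} A) ℤ) [ExactPairing P Q]

/-- The universal class. -/
noncomputable def univ : (((TR A).map₂CochainComplex.obj P).obj Q).homology 0 :=
  cls (E := P ⊗ Q) (η_ P Q)

lemma cls_whisker {N : CochainComplex (ModuleCat.{u} A) ℤ} (f : Q ⟶ N) :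
    (homologyMap (((TR A).map₂CochainComplex.obj P).map f) 0).hom (univ P Q) =
      cls (E := P ⊗ N) (η_ P Q ≫ P ◁ f) :=
  (cls_comp (η_ P Q) (P ◁ f)).symm

/-- the map attached to `x : 𝟙 ⟶ P ⊗ N` -/
noncomputable def adj {N : CochainComplex (ModuleCat.{u} A) ℤ} (x : un A ⟶ P ⊗ N) : Q ⟶ N :=
  (ρ_ Q).inv ≫ Q ◁ x ≫ (α_ Q P N).inv ≫ ε_ P Q ▷ N ≫ (λ_ N).hom

lemma adj_eq {N : CochainComplex (ModuleCat.{u} A) ℤ} (x : un A ⟶ P ⊗ N) :
    adj P Q x = (ρ_ Q).inv ≫ (tensorLeftHomEquiv (𝟙_ _) P Q N).symm x := rfl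

lemma adj_coev {N : CochainComplex (ModuleCat.{u} A) ℤ} (f : Q ⟶ N) :
    adj P Q (η_ P Q ≫ P ◁ f) = f := by
  rw [adj_eq, tensorLeftHomEquiv_symm_coevaluation_comp_whiskerLeft, Iso.inv_hom_id_assoc]

lemma coev_adj {N : CochainComplex (ModuleCat.{u} A) ℤ} (x : un A ⟶ P ⊗ N) :
    η_ P Q ≫ P ◁ adj P Q x = x := by
  apply (tensorLeftHomEquiv (𝟙_ _) P Q N).symm.injective
  rw [tensorLeftHomEquiv_symm_coevaluation_comp_whiskerLeft, adj_eq, Iso.hom_inv_id_assoc]

/-- (R1) Every class is the image of the universal class. -/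
theorem exists_map {N : CochainComplex (ModuleCat.{u} A) ℤ}
    (c : (((TR A).map₂CochainComplex.obj P).obj N).homology 0) :
    ∃ f : Q ⟶ N, (homologyMap (((TR A).map₂CochainComplex.obj P).map f) 0).hom (univ P Q) = c := by
  obtain ⟨x, rfl⟩ := exists_cls (E := P ⊗ N) c
  exact ⟨adj P Q x, by rw [cls_whisker, coev_adj]⟩

/-- (R2) Two maps with the same image of the universal class are homotopic. -/
theorem homotopy_of_map_univ_eq {N : CochainComplex (ModuleCat.{u} A) ℤ} (f g : Q ⟶ N)
    (h : (homologyMap (((TR A).map₂CochainComplex.obj P).map f) 0).hom (univ P Q) =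
      (homologyMap (((TR A).map₂CochainComplex.obj P).map g) 0).hom (univ P Q)) :
    Nonempty (Homotopy f g) := by
  rw [cls_whisker, cls_whisker] at h
  obtain ⟨H⟩ := nonempty_homotopy (E := P ⊗ N) _ _ h
  obtain ⟨H'⟩ := HtpyFunctor.homotopy ((TR A).map₂CochainComplex.obj Q) H
  have H'' : Homotopy (Q ◁ (η_ P Q ≫ P ◁ f)) (Q ◁ (η_ P Q ≫ P ◁ g)) := H'
  have H3 := (H''.comp (Homotopy.refl ((α_ Q P N).inv ≫ ε_ P Q ▷ N ≫ (λ_ N).hom)))
  have H4 := (Homotopy.refl (ρ_ Q).inv).comp H3
  exact ⟨(Homotopy.ofEq (adj_coev P Q f).symm).trans (H4.trans (Homotopy.ofEq (adj_coev P Q g)))⟩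

end Rep

/-- **Representability**: for a bounded complex `P` of finite projective modules there are a bounded complex `Q` of
finite projective modules and a class `q` of `H^0(P ⊗ Q)` such that every class of `H^0(P ⊗ N)` is the image of `q`
under a map `Q ⟶ N`, unique up to homotopy. -/
theorem exists_rep (P : CochainComplex (ModuleCat.{u} A) ℤ) (a b : ℤ) [P.IsStrictlyGE a] [P.IsStrictlyLE b]
    (hf : ∀ n, Module.Finite A (P.X n)) (hp : ∀ n, Module.Projective A (P.X n)) :
    ∃ (Q : CochainComplex (ModuleCat.{u} A) ℤ) (q : (((TR A).map₂CochainComplex.obj P).obj Q).homology 0),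
      Q.IsStrictlyGE (-b) ∧ Q.IsStrictlyLE (-a) ∧ (∀ n, Module.Finite A (Q.X n)) ∧
      (∀ n, Module.Projective A (Q.X n)) ∧
      (∀ (N : CochainComplex (ModuleCat.{u} A) ℤ) (c : (((TR A).map₂CochainComplex.obj P).obj N).homology 0),
        ∃ f : Q ⟶ N, (homologyMap (((TR A).map₂CochainComplex.obj P).map f) 0).hom q = c) ∧
      (∀ (N : CochainComplex (ModuleCat.{u} A) ℤ) (f g : Q ⟶ N),
        (homologyMap (((TR A).map₂CochainComplex.obj P).map f) 0).hom q =
          (homologyMap (((TR A).map₂CochainComplex.obj P).map g) 0).hom q → Nonempty (Homotopy f g)) := by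
  have e : ∀ n, Nonempty (ExactPairing (P.X n) (ModuleCat.of A (Module.Dual A (P.X n)))) := fun n =>
    have := hf n
    have := hp n
    exists_pairing (P.X n)
  obtain ⟨Q, hQ, ⟨eQ⟩⟩ := Groth.Agent.Dcoh.DualCx.exists_exactPairing P a b
    (fun n hn => P.isZero_of_isStrictlyGE a n hn) (fun n hn => P.isZero_of_isStrictlyLE b n hn)
    (fun n => ModuleCat.of A (Module.Dual A (P.X n))) (fun n => (e n).some)
  have hQ' : ∀ n, Nonempty (Q.X n ≅ ModuleCat.of A (Module.Dual A (P.X (-n)))) := fun n =>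
    ⟨eqToIso (by rw [neg_neg]) ≪≫ hQ (-n)⟩
  refine ⟨Q, univ P Q, ?_, ?_, fun n => ?_, fun n => ?_, fun N c => exists_map P Q c,
    fun N f g h => homotopy_of_map_univ_eq P Q f g h⟩
  · rw [CochainComplex.isStrictlyGE_iff]
    intro i hi
    have h0 : IsZero (P.X (-i)) := P.isZero_of_isStrictlyLE b (-i) (by lia)
    have := ModuleCat.subsingleton_of_isZero h0
    exact (ModuleCat.isZero_of_subsingleton _).of_iso (hQ' i).some
  · rw [CochainComplex.isStrictlyLE_iff]
    intro i hi
    have h0 : IsZero (P.X (-i)) := P.isZero_of_isStrictlyGE a (-i) (by lia)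
    have := ModuleCat.subsingleton_of_isZero h0
    exact (ModuleCat.isZero_of_subsingleton _).of_iso (hQ' i).some
  · have := hf (-n)
    have := hp (-n)
    exact Module.Finite.equiv (hQ' n).some.symm.toLinearEquiv
  · have := hf (-n)
    have := hp (-n)
    exact Module.Projective.of_equiv (hQ' n).some.symm.toLinearEquiv

end Groth.Agent.ResProp.EF.K573
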