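import Groth.Agent.ResProp.EF.F5.Iface
import Groth.Agent.LoccohB.PerfTri
import Groth.Agent.Dcoh.FlatAmp
import Mathlib.Algebra.Homology.DerivedCategory.ShortExact
import Mathlib.CategoryTheory.Limits.Shapes.Pullback.IsPullback.Kernels

/-!
# `PerfT` is stable under extensions, cones and fibre products (F5, node (b0))
-/

set_option autoImplicit false

universe t w v u

open CategoryTheory CategoryTheory.Limits HomologicalComplex

attribute [local instance] HasDerivedCategory.standard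

namespace Groth.Agent.ResProp.EF.K573

open Groth.Agent.ResProp.EF.K294 Groth.Agent.ResProp.EF.F5

variable {C : Type v} [Category.{w} C] [Abelian C] {A : Type u} [CommRing A] (X : Chart A C)

/-- `PerfT` in terms of the derived category. -/
theorem perfT_iff (T : CochainComplex C ℤ) :
    PerfT X T ↔ Bdd T ∧ DRing.IsPerfect A (DRing.toD (X.usC.obj T)) := by
  constructor
  · rintro ⟨hT, Q, l, hQ, hl⟩
    refine ⟨hT, ?_⟩
    obtain ⟨a, b, ha, hb⟩ := hQ.bdd
    refine ⟨Q, a, b, ?_, fun n => ⟨hQ.fin n, hQ.proj n⟩, ⟨asIso (DerivedCategory.Q.map l)⟩⟩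
    rintro i (hi | hi)
    · exact Q.isZero_of_isStrictlyGE a i hi
    · exact Q.isZero_of_isStrictlyLE b i hi
  · rintro ⟨hT, Q, a, b, hab, hQ, ⟨e⟩⟩
    have : Q.IsKProjective := Groth.Agent.LoccohB.PerfTri.isKProjective_of_vanishesAbove
      (fun i hi => hab i (Or.inr hi)) (fun i => (hQ i).2)
    obtain ⟨l, hl⟩ := Groth.Agent.Dcoh.FlatAmp.exists_map_eq e.hom
    refine ⟨hT, Q, l, ⟨⟨a, b, ?_, ?_⟩, fun n => (hQ n).1, fun n => (hQ n).2⟩, ?_⟩
    · rw [CochainComplex.isStrictlyGE_iff]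
      exact fun i hi => hab i (Or.inl hi)
    · rw [CochainComplex.isStrictlyLE_iff]
      exact fun i hi => hab i (Or.inr hi)
    · rw [← DerivedCategory.isIso_Q_map_iff_quasiIso, hl]
      infer_instance

section Bdd

lemma bdd_iff (K : CochainComplex C ℤ) :
    Bdd K ↔ ∃ a b : ℤ, ∀ i, (i < a ∨ b < i) → IsZero (K.X i) := by
  constructor
  · rintro ⟨a, b, _, _⟩
    refine ⟨a, b, ?_⟩
    rintro i (hi | hi)
    · exact K.isZero_of_isStrictlyGE a i hi
    · exact K.isZero_of_isStrictlyLE b i hi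
  · rintro ⟨a, b, h⟩
    refine ⟨a, b, ?_, ?_⟩
    · rw [CochainComplex.isStrictlyGE_iff]
      exact fun i hi => h i (Or.inl hi)
    · rw [CochainComplex.isStrictlyLE_iff]
      exact fun i hi => h i (Or.inr hi)

lemma Bdd.of_iso {K L : CochainComplex C ℤ} (e : K ≅ L) (h : Bdd K) : Bdd L := by
  rw [bdd_iff] at h ⊢
  obtain ⟨a, b, h⟩ := h
  exact ⟨a, b, fun i hi => (h i hi).of_iso ((eval C _ i).mapIso e.symm)⟩

lemma Bdd.shift {K : CochainComplex C ℤ} (h : Bdd K) (n : ℤ) : Bdd (K⟦n⟧) := by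
  rw [bdd_iff] at h ⊢
  obtain ⟨a, b, h⟩ := h
  exact ⟨a - n, b - n, fun i hi => h (i + n) (by omega)⟩

variable {S : ShortComplex (CochainComplex C ℤ)} (hS : S.ShortExact)

include hS in
lemma isZero_X₂ (i : ℤ) (h1 : IsZero (S.X₁.X i)) (h3 : IsZero (S.X₃.X i)) : IsZero (S.X₂.X i) :=
  (hS.map_of_exact (eval C (ComplexShape.up ℤ) i)).exact.isZero_of_both_zeros
    (h1.eq_of_src _ _) (h3.eq_of_tgt _ _)

include hS in
lemma Bdd.ses₂ (h1 : Bdd S.X₁) (h3 : Bdd S.X₃) : Bdd S.X₂ := by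
  rw [bdd_iff] at h1 h3 ⊢
  obtain ⟨a, b, h⟩ := h1
  obtain ⟨a', b', h'⟩ := h3
  exact ⟨min a a', max b b', fun i hi => isZero_X₂ hS i (h i (by omega)) (h' i (by omega))⟩

include hS in
lemma Bdd.ses₁ (h2 : Bdd S.X₂) : Bdd S.X₁ := by
  rw [bdd_iff] at h2 ⊢
  obtain ⟨a, b, h⟩ := h2
  refine ⟨a, b, fun i hi => ?_⟩
  have : Mono (S.f.f i) := (hS.map_of_exact (eval C (ComplexShape.up ℤ) i)).mono_f
  exact IsZero.of_mono (S.f.f i) (h i hi)

include hS in
lemma Bdd.ses₃ (h2 : Bdd S.X₂) : Bdd S.X₃ := by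
  rw [bdd_iff] at h2 ⊢
  obtain ⟨a, b, h⟩ := h2
  refine ⟨a, b, fun i hi => ?_⟩
  have : Epi (S.g.f i) := (hS.map_of_exact (eval C (ComplexShape.up ℤ) i)).epi_g
  exact IsZero.of_epi (S.g.f i) (h i hi)

lemma Bdd.mappingCone {K L : CochainComplex C ℤ} (f : K ⟶ L) (h1 : Bdd K) (h2 : Bdd L) :
    Bdd (CochainComplex.mappingCone f) := by
  rw [bdd_iff] at h1 h2 ⊢
  obtain ⟨a, b, h⟩ := h1
  obtain ⟨a', b', h'⟩ := h2
  refine ⟨min (a - 1) a', max b b', fun i hi => ?_⟩
  refine IsZero.of_iso ?_ (HomologicalComplex.homotopyCofiber.XIsoBiprod f i (i + 1) rfl)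
  exact biprod_isZero_iff _ _ |>.2 ⟨h (i + 1) (by omega), h' i (by omega)⟩

end Bdd

section Perf

lemma preservesFiniteColimits_us : PreservesFiniteColimits X.us := by
  have := X.adj.leftAdjoint_preservesColimits
  exact PreservesColimits.preservesFiniteColimits _

lemma preservesHomology_us : X.us.PreservesHomology := by
  have := preservesFiniteColimits_us X
  infer_instance

lemma quasiIso_usC {K L : CochainComplex C ℤ} (f : K ⟶ L) [QuasiIso f] : QuasiIso (X.usC.map f) := by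
  have := preservesHomology_us X
  infer_instance

lemma shortExact_usC {S : ShortComplex (CochainComplex C ℤ)} (hS : S.ShortExact) :
    (S.map X.usC).ShortExact := by
  have := preservesFiniteColimits_us X
  refine HomologicalComplex.shortExact_of_degreewise_shortExact _ (fun n => ?_)
  exact (hS.map_of_exact (eval C (ComplexShape.up ℤ) n)).map_of_exact X.us

variable {X}

open Groth.Agent.LoccohB

theorem _root_.Groth.Agent.ResProp.EF.F5.PerfT.bdd {T : CochainComplex C ℤ} (h : PerfT X T) : Bdd T := h.1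

theorem PerfT.of_quasiIso {T T' : CochainComplex C ℤ} (f : T ⟶ T') [QuasiIso f] (h : PerfT X T) (h' : Bdd T') :
    PerfT X T' := by
  rw [perfT_iff] at h ⊢
  have := quasiIso_usC X f
  exact ⟨h', PerfTri.isPerfect_of_iso (asIso (DerivedCategory.Q.map (X.usC.map f))) h.2⟩

theorem PerfT.of_quasiIso' {T T' : CochainComplex C ℤ} (f : T ⟶ T') [QuasiIso f] (h : PerfT X T') (h' : Bdd T) :
    PerfT X T := by
  rw [perfT_iff] at h ⊢
  have := quasiIso_usC X f
  exact ⟨h', PerfTri.isPerfect_of_iso (asIso (DerivedCategory.Q.map (X.usC.map f))).symm h.2⟩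

theorem PerfT.of_iso {T T' : CochainComplex C ℤ} (e : T ≅ T') (h : PerfT X T) : PerfT X T' :=
  PerfT.of_quasiIso e.hom h (Bdd.of_iso e h.1)

section SES

variable {S : ShortComplex (CochainComplex C ℤ)} (hS : S.ShortExact)

include hS in
theorem PerfT.ses₂ (h1 : PerfT X S.X₁) (h3 : PerfT X S.X₃) : PerfT X S.X₂ := by
  rw [perfT_iff] at h1 h3 ⊢
  exact ⟨Bdd.ses₂ hS h1.1 h3.1,
    PerfTri.isPerfect_obj₂ (DerivedCategory.triangleOfSES_distinguished (shortExact_usC X hS)) h1.2 h3.2⟩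

include hS in
theorem PerfT.ses₁ (h2 : PerfT X S.X₂) (h3 : PerfT X S.X₃) : PerfT X S.X₁ := by
  rw [perfT_iff] at h2 h3 ⊢
  exact ⟨Bdd.ses₁ hS h2.1,
    PerfTri.isPerfect_obj₁ (DerivedCategory.triangleOfSES_distinguished (shortExact_usC X hS)) h2.2 h3.2⟩

include hS in
theorem PerfT.ses₃ (h1 : PerfT X S.X₁) (h2 : PerfT X S.X₂) : PerfT X S.X₃ := by
  rw [perfT_iff] at h1 h2 ⊢
  exact ⟨Bdd.ses₃ hS h2.1,
    PerfTri.isPerfect_obj₃ (DerivedCategory.triangleOfSES_distinguished (shortExact_usC X hS)) h1.2 h2.2⟩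

end SES

theorem PerfT.shift {T : CochainComplex C ℤ} (h : PerfT X T) (n : ℤ) : PerfT X (T⟦n⟧) := by
  rw [perfT_iff] at h ⊢
  exact ⟨Bdd.shift h.1 n, PerfTri.isPerfect_of_iso ((DerivedCategory.Q.commShiftIso n).symm.app _ ≪≫
    DerivedCategory.Q.mapIso ((X.usC.commShiftIso n).symm.app T)) (PerfTri.isPerfect_shift n h.2)⟩

/-- The cone of a map between complexes of `PerfT` is of `PerfT`. -/
theorem PerfT.mappingCone {T T' : CochainComplex C ℤ} (f : T ⟶ T') (h : PerfT X T) (h' : PerfT X T') :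
    PerfT X (CochainComplex.mappingCone f) := by
  rw [perfT_iff] at h h' ⊢
  refine ⟨Bdd.mappingCone f h.1 h'.1, ?_⟩
  have h1 := PerfTri.isPerfect_obj₃ (DerivedCategory.mappingCone_triangle_distinguished (X.usC.map f)) h.2 h'.2
  exact PerfTri.isPerfect_of_iso (DerivedCategory.Q.mapIso
    (CochainComplex.mappingCone.mapHomologicalComplexIso f X.us).symm) h1

/-- Fibre products: the kernel of `g` and `T'` are of `PerfT`. -/
theorem PerfT.pullback {T' W Z : CochainComplex C ℤ} (f : T' ⟶ Z) (g : W ⟶ Z) [Epi g] (h : PerfT X T')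
    (h' : PerfT X (kernel g)) : PerfT X (Limits.pullback f g) := by
  have sq : IsPullback (pullback.fst f g) (pullback.snd f g) f g := IsPullback.of_hasPullback f g
  have := isIso_kernel_map_of_isPullback sq
  have h1 : PerfT X (kernel (pullback.fst f g)) :=
    PerfT.of_iso (asIso (kernel.map _ _ _ _ sq.w)).symm h'
  have hS : (ShortComplex.mk (kernel.ι (pullback.fst f g)) (pullback.fst f g) (kernel.condition _)).ShortExact :=
    { exact := ShortComplex.exact_kernel _ }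
  exact PerfT.ses₂ hS h1 h

end Perf

end Groth.Agent.ResProp.EF.K573
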