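import Groth.Agent.ResProp.EF.K668.CoalgAb
import Mathlib.CategoryTheory.Monad.Limits
import Mathlib.Algebra.Homology.ShortComplex.ExactFunctor

/-!
# Lifting endofunctors to coalgebras over a comonad

`CoLift G T`: `θ : T G ⟶ G T` compatible with counit and comultiplication.  `CoLift.lift : G.Coalgebra ⥤ G.Coalgebra`,
`M ↦ (T M.A, T M.a ≫ θ)`; `CoLift.hom`: natural transformations; additivity, (co)limits.
-/

set_option autoImplicit false

noncomputable section

open CategoryTheory CategoryTheory.Limits

namespace Groth.Agent.ResProp.EF.K573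

universe v u w w'

variable {C : Type u} [Category.{v} C] (G : Comonad C)

/-- a lifting of the endofunctor `T` to the coalgebras over `G` -/
structure CoLift (T : C ⥤ C) where
  θ : ∀ N : C, T.obj (G.obj N) ⟶ G.obj (T.obj N)
  nat : ∀ {M N : C} (f : M ⟶ N), T.map (G.map f) ≫ θ N = θ M ≫ G.map (T.map f)
  eps : ∀ N : C, θ N ≫ G.ε.app (T.obj N) = T.map (G.ε.app N)
  del : ∀ N : C, θ N ≫ G.δ.app (T.obj N) = T.map (G.δ.app N) ≫ θ (G.obj N) ≫ G.map (θ N)

variable {G} {T : C ⥤ C} (L : CoLift G T)

namespace CoLift

/-- the lifted functor on an object -/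
@[simps]
def liftObj (M : G.Coalgebra) : G.Coalgebra where
  A := T.obj M.A
  a := T.map M.a ≫ L.θ M.A
  counit := by
    rw [Category.assoc, L.eps, ← T.map_comp, M.counit, T.map_id]
  coassoc := by
    have h := congrArg T.map M.coassoc
    rw [T.map_comp, T.map_comp] at h
    rw [Category.assoc, L.del, reassoc_of% h, reassoc_of% (L.nat M.a), G.map_comp, Category.assoc]

/-- the lifted functor -/
@[simps]
def lift : G.Coalgebra ⥤ G.Coalgebra where
  obj M := L.liftObj M
  map {X Y} f :=
    { f := T.map f.f
      h := by
        change (T.map X.a ≫ L.θ X.A) ≫ G.map (T.map f.f) = T.map f.f ≫ T.map Y.a ≫ L.θ Y.A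
        rw [Category.assoc, ← L.nat, ← T.map_comp_assoc, f.h, T.map_comp_assoc] }

/-- the underlying functor is `T` -/
def liftForget : L.lift ⋙ G.forget ≅ G.forget ⋙ T := Iso.refl _

variable {T' : C ⥤ C} (L' : CoLift G T') {T'' : C ⥤ C} (L'' : CoLift G T'')

/-- compatibility of a natural transformation with the liftings -/
def Compat (τ : T ⟶ T') : Prop := ∀ N : C, τ.app (G.obj N) ≫ L'.θ N = L.θ N ≫ G.map (τ.app N)

variable {L L' L''}

/-- the lifted natural transformation -/
@[simps]
def hom (τ : T ⟶ T') (h : Compat L L' τ) : L.lift ⟶ L'.lift where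
  app M :=
    { f := τ.app M.A
      h := by
        change (T.map M.a ≫ L.θ M.A) ≫ G.map (τ.app M.A) = τ.app M.A ≫ T'.map M.a ≫ L'.θ M.A
        rw [Category.assoc, ← h, τ.naturality_assoc] }
  naturality M N f := by
    apply Comonad.Coalgebra.Hom.ext
    exact τ.naturality f.f

lemma compat_id : Compat L L (𝟙 T) := fun N => by
  rw [NatTrans.id_app, NatTrans.id_app, Category.id_comp, G.map_id, Category.comp_id]

lemma compat_comp {τ : T ⟶ T'} {τ' : T' ⟶ T''} (h : Compat L L' τ) (h' : Compat L' L'' τ') :
    Compat L L'' (τ ≫ τ') := fun N => by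
  rw [NatTrans.comp_app, NatTrans.comp_app, Category.assoc, h', reassoc_of% (h N), G.map_comp]

lemma hom_id : hom (𝟙 T) (compat_id (L := L)) = 𝟙 L.lift := by
  ext M
  rfl

lemma hom_comp {τ : T ⟶ T'} {τ' : T' ⟶ T''} (h : Compat L L' τ) (h' : Compat L' L'' τ') :
    hom (τ ≫ τ') (compat_comp h h') = hom τ h ≫ hom τ' h' := by
  ext M
  rfl

lemma hom_congr {τ τ' : T ⟶ T'} (e : τ = τ') (h : Compat L L' τ) (h' : Compat L L' τ') : hom τ h = hom τ' h' := by
  subst e
  rfl

variable (L)

section Additive

variable [Preadditive C] [G.toFunctor.Additive]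

instance additive_lift [T.Additive] : L.lift.Additive where
  map_add {X Y f g} := by
    apply G.forget.map_injective
    change T.map (f.f + g.f) = T.map f.f + T.map g.f
    exact T.map_add

end Additive

section Lim

variable {J : Type w} [Category.{w'} J]

/-- `lift` preserves the colimits preserved by `T` -/
theorem preservesColimitsOfShape_lift [HasColimitsOfShape J C] [PreservesColimitsOfShape J T] :
    PreservesColimitsOfShape J L.lift := by
  have : PreservesColimitsOfShape J (L.lift ⋙ G.forget) :=
    inferInstanceAs (PreservesColimitsOfShape J (G.forget ⋙ T))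
  exact preservesColimitsOfShape_of_reflects_of_preserves L.lift G.forget

/-- `lift` preserves the limits preserved by `T` and the comonad -/
theorem preservesLimitsOfShape_lift [HasLimitsOfShape J C] [PreservesLimitsOfShape J G.toFunctor]
    [PreservesLimitsOfShape J T] : PreservesLimitsOfShape J L.lift := by
  have : PreservesLimitsOfShape J (L.lift ⋙ G.forget) :=
    inferInstanceAs (PreservesLimitsOfShape J (G.forget ⋙ T))
  have : ReflectsLimitsOfShape J G.forget := reflectsLimitsOfShape_of_reflectsIsomorphisms
  exact preservesLimitsOfShape_of_reflects_of_preserves L.lift G.forget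

end Lim

theorem preservesFiniteColimits_lift [HasFiniteColimits C] [PreservesFiniteColimits T] :
    PreservesFiniteColimits L.lift :=
  ⟨fun _ _ _ => preservesColimitsOfShape_lift L⟩

theorem preservesFiniteLimits_lift [HasFiniteLimits C] [PreservesFiniteLimits G.toFunctor]
    [PreservesFiniteLimits T] : PreservesFiniteLimits L.lift :=
  ⟨fun _ _ _ => preservesLimitsOfShape_lift L⟩

end CoLift

end Groth.Agent.ResProp.EF.K573
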