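import Mathlib.Algebra.Category.ModuleCat.Monoidal.Basic
import Mathlib.Algebra.Category.ModuleCat.Monoidal.Symmetric
import Mathlib.CategoryTheory.Monoidal.Rigid.Basic
import Mathlib.LinearAlgebra.Contraction
import Mathlib.RingTheory.Finiteness.Projective
import Mathlib.Algebra.Module.Projective

/-!
# A finite projective module has its dual as right dual in `ModuleCat A`
-/

set_option autoImplicit false

universe u

open CategoryTheory MonoidalCategory TensorProduct

namespace Groth.Agent.ResProp.EF.K573

variable {A : Type u} [CommRing A] (M : Type u) [AddCommGroup M] [Module A M]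

lemma exists_dualBasis [Module.Finite A M] [Module.Projective A M] :
    ∃ (n : ℕ) (m : Fin n → M) (φ : Fin n → Module.Dual A M), ∀ x, ∑ i, φ i x • m i = x := by
  obtain ⟨n, f, hf⟩ := Module.Finite.exists_fin' A M
  obtain ⟨s, hs⟩ := Module.projective_lifting_property f LinearMap.id hf
  refine ⟨n, fun i => f (Pi.single i 1), fun i => (LinearMap.proj i) ∘ₗ s, fun x => ?_⟩
  have h : f (s x) = x := LinearMap.congr_fun hs x
  conv_rhs => rw [← h, ← Finset.univ_sum_single (s x), map_sum]
  refine Finset.sum_congr rfl (fun i _ => ?_)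
  have : (Pi.single i (s x i) : Fin n → A) = s x i • Pi.single i 1 := by
    rw [← Pi.single_smul, smul_eq_mul, mul_one]
  rw [this, map_smul]
  rfl

/-- The exact pairing given by a dual basis. -/
@[instance_reducible]
noncomputable def pairingOfBasis (n : ℕ) (m : Fin n → M) (φ : Fin n → Module.Dual A M)
    (h : ∀ x, ∑ i, φ i x • m i = x) :
    ExactPairing (ModuleCat.of A M) (ModuleCat.of A (Module.Dual A M)) where
  coevaluation' := ModuleCat.ofHom (LinearMap.toSpanSingleton A (M ⊗[A] Module.Dual A M) (∑ i, m i ⊗ₜ[A] φ i))
  evaluation' := ModuleCat.ofHom (contractLeft A M)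
  coevaluation_evaluation' := by
    apply ModuleCat.hom_ext
    apply TensorProduct.ext'
    intro y a
    have h1 : ∑ i, y (m i) • φ i = y := by
      ext x
      conv_rhs => rw [← h x, map_sum]
      simp [LinearMap.sum_apply, mul_comm]
    change (LinearMap.rTensor (Module.Dual A M) (contractLeft A M))
      ((TensorProduct.assoc A (Module.Dual A M) M (Module.Dual A M)).symm
        ((LinearMap.lTensor (Module.Dual A M)
          (LinearMap.toSpanSingleton A (M ⊗[A] Module.Dual A M) (∑ i, m i ⊗ₜ[A] φ i))) (y ⊗ₜ[A] a))) =
      (TensorProduct.lid A (Module.Dual A M)).symm (TensorProduct.rid A (Module.Dual A M) (y ⊗ₜ[A] a))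
    rw [LinearMap.lTensor_tmul, LinearMap.toSpanSingleton_apply, tmul_smul, map_smul, map_smul, tmul_sum,
      map_sum, map_sum, TensorProduct.rid_tmul, TensorProduct.lid_symm_apply]
    simp only [TensorProduct.assoc_symm_tmul, LinearMap.rTensor_tmul, contractLeft_apply]
    conv_rhs => rw [← h1]
    rw [Finset.smul_sum, Finset.smul_sum, tmul_sum]
    refine Finset.sum_congr rfl (fun i _ => ?_)
    rw [tmul_smul, tmul_smul, TensorProduct.smul_tmul' (y (m i)), smul_eq_mul, mul_one]
  evaluation_coevaluation' := by
    apply ModuleCat.hom_ext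
    apply TensorProduct.ext'
    intro a x
    change (LinearMap.lTensor M (contractLeft A M))
      ((TensorProduct.assoc A M (Module.Dual A M) M)
        ((LinearMap.rTensor M
          (LinearMap.toSpanSingleton A (M ⊗[A] Module.Dual A M) (∑ i, m i ⊗ₜ[A] φ i))) (a ⊗ₜ[A] x))) =
      (TensorProduct.rid A M).symm (TensorProduct.lid A M (a ⊗ₜ[A] x))
    rw [LinearMap.rTensor_tmul, LinearMap.toSpanSingleton_apply, ← smul_tmul', map_smul, map_smul, sum_tmul,
      map_sum, map_sum, TensorProduct.lid_tmul, TensorProduct.rid_symm_apply]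
    simp only [TensorProduct.assoc_tmul, LinearMap.lTensor_tmul, contractLeft_apply]
    conv_rhs => rw [← h x]
    rw [Finset.smul_sum, Finset.smul_sum, sum_tmul]
    refine Finset.sum_congr rfl (fun i _ => ?_)
    rw [← smul_tmul', ← smul_tmul']
    congr 1
    rw [← tmul_smul, smul_eq_mul, mul_one]

/-- A finite projective module has a right dual, which is finite projective. -/
theorem exists_pairing (M : ModuleCat.{u} A) [Module.Finite A M] [Module.Projective A M] :
    Nonempty (ExactPairing M (ModuleCat.of A (Module.Dual A M))) := by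
  obtain ⟨n, m, φ, h⟩ := exists_dualBasis (A := A) M
  exact ⟨pairingOfBasis (A := A) M n m φ h⟩

end Groth.Agent.ResProp.EF.K573
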