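import Groth.Agent.ResProp.EF.K573.CoLift
import Groth.Agent.ResProp.EF.K742.GO
import Groth.Prelude.Def_ComodTens

/-!
# Twists of the coalgebras over the comonad `- ⊗_k O` on `Comod A` by a comodule `W` over `O` ([TW], G6c)

`tw s F : (GO s O).Coalgebra ⥤ (GO s O).Coalgebra`, `M ↦ M ⊗_k W` with the tensor coaction `m ⊗ w ↦ m₀ ⊗ w₀ ⊗ m₁ w₁`,
`twMap`: functoriality in the comodule.
-/

set_option autoImplicit false
set_option linter.dupNamespace false
set_option linter.unusedSectionVars false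

open CategoryTheory CategoryTheory.Limits Opposite TensorProduct

noncomputable section

namespace Groth.Agent.ResProp.EF.K573

open K784.BC K784.PM K741.RP EF56 K742

universe u

section level

variable {k : Type u} [CommRing k] {R : Type u} [CommRing R] (κ : k →+* R) {N : Type u} [AddCommGroup N] [Module R N]
variable {W : Type u} [AddCommGroup W] [Module k W] {V : Type u} [AddCommGroup V] [Module k V]

/-- `z ↦ n ⊗ z`, `W ⊗ V → (N ⊗ W) ⊗ V` -/
def insW (n : N) : W ⊗[k] V →+ TM κ (TM κ N W) V :=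
  TensorProduct.liftAddHom
    (AddMonoidHom.mk' (fun a => AddMonoidHom.mk' (fun b => TM.tm κ (TM.tm κ n a) b) (TM.tm_add_right κ _)) fun a a' => by
      ext b
      change TM.tm κ (TM.tm κ n (a + a')) b = TM.tm κ (TM.tm κ n a) b + TM.tm κ (TM.tm κ n a') b
      rw [TM.tm_add_right, TM.tm_add_left])
    (fun c a b => by
      change TM.tm κ (TM.tm κ n (c • a)) b = TM.tm κ (TM.tm κ n a) (c • b)
      rw [← TM.k_smul_tm, TM.tm_k])

@[simp] theorem insW_tmul (n : N) (a : W) (b : V) : insW κ n (a ⊗ₜ[k] b) = TM.tm κ (TM.tm κ n a) b := rfl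

theorem insW_add (n n' : N) (z : W ⊗[k] V) : insW κ (n + n') z = insW κ n z + insW κ n' z := by
  induction z using TensorProduct.induction_on with
  | zero => simp
  | tmul a b => rw [insW_tmul, insW_tmul, insW_tmul, TM.tm_add_left, TM.tm_add_left]
  | add x y hx hy => rw [map_add, map_add, map_add, hx, hy]; abel

theorem insW_smul (r : R) (n : N) (z : W ⊗[k] V) : insW κ (r • n) z = r • insW κ n z := by
  induction z using TensorProduct.induction_on with
  | zero => simp
  | tmul a b => rw [insW_tmul, insW_tmul, TM.smul_tm, TM.smul_tm]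
  | add x y hx hy => rw [map_add, map_add, hx, hy, smul_add]

theorem insW_k (c : k) (n : N) (z : W ⊗[k] V) : insW κ n (c • z) = κ c • insW κ n z := by
  induction z using TensorProduct.induction_on with
  | zero => simp
  | tmul a b => rw [TensorProduct.smul_tmul', insW_tmul, insW_tmul, TM.smul_tm, TM.k_smul_tm]
  | add x y hx hy => rw [smul_add, map_add, map_add, hx, hy, smul_add]

theorem insW_map {N' : Type u} [AddCommGroup N'] [Module R N'] {W' V' : Type u} [AddCommGroup W'] [Module k W']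
    [AddCommGroup V'] [Module k V'] (f : N →ₗ[R] N') (g : W →ₗ[k] W') (h : V →ₗ[k] V') (n : N) (z : W ⊗[k] V) :
    TM.map κ (TM.map κ f g) h (insW κ n z) = insW κ (f n) (TensorProduct.map g h z) := by
  induction z using TensorProduct.induction_on with
  | zero => simp
  | tmul a b => rw [insW_tmul, TM.map_tm, TM.map_tm, TensorProduct.map_tmul, insW_tmul]
  | add x y hx hy => rw [map_add, map_add, map_add, map_add, hx, hy]

theorem smap_insW {S : Type u} [CommRing S] (κ' : k →+* S) (φ : R →+* S)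
    (hφ : ∀ c, φ (κ c) = κ' c) {N' : Type u} [AddCommGroup N'] [Module S N']
    (f : N →+ N') (hf : ∀ (r : R) (m : N), f (r • m) = φ r • f m) (n : N) (z : W ⊗[k] V) :
    TM.smap (W := V) κ' φ hφ (TM.smap (W := W) κ' φ hφ f hf) (TM.smap_smul κ' φ hφ f hf) (insW κ n z) =
      insW κ' (f n) z := by
  induction z using TensorProduct.induction_on with
  | zero => rw [map_zero, map_zero, map_zero]
  | tmul a b => rw [insW_tmul, insW_tmul, TM.smap_tm, TM.smap_tm]
  | add x y hx hy => rw [map_add, map_add, map_add, hx, hy]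

/-- two maps out of `(N ⊗ W) ⊗ V` agreeing on pure tensors -/
theorem ext2 {P : Type*} [AddCommGroup P] {f g : TM κ (TM κ N W) V →+ P}
    (h : ∀ n w v, f (TM.tm κ (TM.tm κ n w) v) = g (TM.tm κ (TM.tm κ n w) v)) : f = g := by
  refine TM.addHom_ext κ fun x v => ?_
  induction x using TM.induction with
  | zero => rw [TM.tm_zero_left, map_zero, map_zero]
  | tm n w => exact h n w v
  | add x y hx hy => rw [TM.tm_add_left, map_add, map_add, hx, hy]

variable {O : Type u} [CommRing O] [Bialgebra k O] (F : HopfRep.Comod k O W)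

/-- `w ↦ w₀ ⊗ a w₁` -/
def La (a : O) : W →ₗ[k] W ⊗[k] O := ((LinearMap.mulLeft k a).lTensor W) ∘ₗ F.coact

theorem La_add (a b : O) (w : W) : La F (a + b) w = La F a w + La F b w := by
  have h : LinearMap.mulLeft k (a + b) = LinearMap.mulLeft k a + LinearMap.mulLeft k b := by
    ext x; simp [add_mul]
  rw [La, h, LinearMap.lTensor_add]
  rfl

theorem La_smul (c : k) (a : O) (w : W) : La F (c • a) w = c • La F a w := by
  have h : LinearMap.mulLeft k (c • a) = c • LinearMap.mulLeft k a := by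
    ext x; simp
  rw [La, h, LinearMap.lTensor_smul]
  rfl

variable (N) in
/-- the inner part of `thL` -/
def thI : TM κ N O →+ W →+ TM κ (TM κ N W) O :=
  TM.lift κ
    (AddMonoidHom.mk' (fun n => AddMonoidHom.mk' (fun a => (insW κ n).comp (La F a).toAddMonoidHom) fun a b => by
        ext w
        change insW κ n (La F (a + b) w) = insW κ n (La F a w) + insW κ n (La F b w)
        rw [La_add, map_add]) fun n n' => by
      ext a w
      exact insW_add κ n n' _)
    (fun c n a => by
      ext w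
      change insW κ (κ c • n) (La F a w) = insW κ n (La F (c • a) w)
      rw [La_smul, insW_k, insW_smul])

theorem thI_tm (n : N) (a : O) (w : W) : thI κ N F (TM.tm κ n a) w = insW κ n (La F a w) := by
  rw [thI, TM.lift_tm]
  rfl

variable (N) in
/-- `(N ⊗ O) ⊗ W → (N ⊗ W) ⊗ O`, `n ⊗ a ⊗ w ↦ n ⊗ w₀ ⊗ a w₁` -/
def thL : TM κ (TM κ N O) W →ₗ[R] TM κ (TM κ N W) O :=
  TM.liftL κ (thI κ N F)
    (fun c x w => by
      induction x using TM.induction with
      | zero => rw [smul_zero, map_zero]; rfl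
      | tm n a =>
        rw [TM.k_smul_tm, thI_tm, thI_tm, La_smul, (La F a).map_smul]
      | add x y hx hy =>
        rw [smul_add, map_add, map_add, AddMonoidHom.add_apply, AddMonoidHom.add_apply, hx, hy])
    (fun r x w => by
      induction x using TM.induction with
      | zero => rw [smul_zero, map_zero]; exact (smul_zero r).symm
      | tm n a => rw [TM.smul_tm, thI_tm, thI_tm, insW_smul]
      | add x y hx hy =>
        rw [smul_add, map_add, map_add, AddMonoidHom.add_apply, AddMonoidHom.add_apply, hx, hy, smul_add])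

theorem thL_tm (n : N) (a : O) (w : W) :
    thL κ N F (TM.tm κ (TM.tm κ n a) w) = insW κ n (La F a w) :=
  (TM.liftL_tm κ _ _ _ _ w).trans (thI_tm κ F n a w)

/-! naturality -/

theorem thL_map {N' : Type u} [AddCommGroup N'] [Module R N'] (f : N →ₗ[R] N') (x : TM κ (TM κ N O) W) :
    thL κ N' F (TM.map κ (TM.map κ f (LinearMap.id : O →ₗ[k] O)) (LinearMap.id : W →ₗ[k] W) x) =
      TM.map κ (TM.map κ f (LinearMap.id : W →ₗ[k] W)) (LinearMap.id : O →ₗ[k] O) (thL κ N F x) := by
  refine DFunLike.congr_fun (ext2 κ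
    (f := ((thL κ N' F) ∘ₗ TM.map κ (TM.map κ f (LinearMap.id : O →ₗ[k] O)) (LinearMap.id : W →ₗ[k] W)).toAddMonoidHom)
    (g := (TM.map κ (TM.map κ f (LinearMap.id : W →ₗ[k] W)) (LinearMap.id : O →ₗ[k] O) ∘ₗ
      thL κ N F).toAddMonoidHom) fun n a w => ?_) x
  change thL κ N' F (TM.map κ (TM.map κ f (LinearMap.id : O →ₗ[k] O)) (LinearMap.id : W →ₗ[k] W)
    (TM.tm κ (TM.tm κ n a) w)) = TM.map κ (TM.map κ f (LinearMap.id : W →ₗ[k] W)) (LinearMap.id : O →ₗ[k] O)
      (thL κ N F (TM.tm κ (TM.tm κ n a) w))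
  rw [TM.map_tm, TM.map_tm, thL_tm, thL_tm, insW_map, TensorProduct.map_id]
  rfl

theorem thL_smap {S : Type u} [CommRing S] (κ' : k →+* S) (φ : R →+* S)
    (hφ : ∀ c, φ (κ c) = κ' c) {N' : Type u} [AddCommGroup N'] [Module S N']
    (f : N →+ N') (hf : ∀ (r : R) (m : N), f (r • m) = φ r • f m) (x : TM κ (TM κ N O) W) :
    thL κ' N' F (TM.smap (W := W) κ' φ hφ (TM.smap (W := O) κ' φ hφ f hf) (TM.smap_smul κ' φ hφ f hf) x) =
      TM.smap (W := O) κ' φ hφ (TM.smap (W := W) κ' φ hφ f hf) (TM.smap_smul κ' φ hφ f hf) (thL κ N F x) := by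
  refine DFunLike.congr_fun (ext2 κ
    (f := (thL κ' N' F).toAddMonoidHom.comp (TM.smap (W := W) κ' φ hφ (TM.smap (W := O) κ' φ hφ f hf)
      (TM.smap_smul κ' φ hφ f hf)))
    (g := (TM.smap (W := O) κ' φ hφ (TM.smap (W := W) κ' φ hφ f hf) (TM.smap_smul κ' φ hφ f hf)).comp
      (thL κ N F).toAddMonoidHom) fun n a w => ?_) x
  change thL κ' N' F (TM.smap (W := W) κ' φ hφ (TM.smap (W := O) κ' φ hφ f hf) (TM.smap_smul κ' φ hφ f hf)
      (TM.tm κ (TM.tm κ n a) w)) = TM.smap (W := O) κ' φ hφ (TM.smap (W := W) κ' φ hφ f hf)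
        (TM.smap_smul κ' φ hφ f hf) (thL κ N F (TM.tm κ (TM.tm κ n a) w))
  rw [TM.smap_tm, TM.smap_tm, thL_tm, thL_tm, smap_insW]

/-! counit -/

theorem epsL_insW (n : N) (z : W ⊗[k] O) :
    epsL O κ (TM κ N W) (insW κ n z) =
      TM.tm κ n (TensorProduct.rid k W ((Coalgebra.counit (R := k) (A := O)).lTensor W z)) := by
  induction z using TensorProduct.induction_on with
  | zero => rw [map_zero, map_zero, map_zero, map_zero, TM.tm_zero_right]
  | tmul a b =>
    rw [insW_tmul, epsL_tm, TM.k_smul_tm, LinearMap.lTensor_tmul, TensorProduct.rid_tmul]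
  | add x y hx hy => rw [map_add, map_add, map_add, map_add, TM.tm_add_right, hx, hy]

theorem counit_La (a : O) (w : W) :
    TensorProduct.rid k W ((Coalgebra.counit (R := k) (A := O)).lTensor W (La F a w)) =
      Coalgebra.counit (R := k) a • w := by
  have h : ∀ z : W ⊗[k] O, (Coalgebra.counit (R := k) (A := O)).lTensor W ((LinearMap.mulLeft k a).lTensor W z) =
      Coalgebra.counit (R := k) a • (Coalgebra.counit (R := k) (A := O)).lTensor W z := by
    intro z
    induction z using TensorProduct.induction_on with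
    | zero => simp
    | tmul x b =>
      rw [LinearMap.lTensor_tmul, LinearMap.lTensor_tmul, LinearMap.lTensor_tmul, LinearMap.mulLeft_apply,
        Bialgebra.counit_mul, ← smul_eq_mul, TensorProduct.tmul_smul]
    | add x y hx hy => rw [map_add, map_add, map_add, hx, hy, smul_add]
  have h2 : (Coalgebra.counit (R := k) (A := O)).lTensor W (F.coact w) = w ⊗ₜ[k] (1 : k) :=
    LinearMap.congr_fun F.counit_comp w
  rw [La, LinearMap.comp_apply, h, h2, map_smul, TensorProduct.rid_tmul, one_smul]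

theorem thL_eps (x : TM κ (TM κ N O) W) :
    epsL O κ (TM κ N W) (thL κ N F x) = TM.map κ (epsL O κ N) (LinearMap.id : W →ₗ[k] W) x := by
  refine DFunLike.congr_fun (ext2 κ (f := (epsL O κ (TM κ N W) ∘ₗ thL κ N F).toAddMonoidHom)
    (g := (TM.map κ (epsL O κ N) (LinearMap.id : W →ₗ[k] W)).toAddMonoidHom) fun n a w => ?_) x
  change epsL O κ (TM κ N W) (thL κ N F (TM.tm κ (TM.tm κ n a) w)) =
    TM.map κ (epsL O κ N) (LinearMap.id : W →ₗ[k] W) (TM.tm κ (TM.tm κ n a) w)
  rw [thL_tm, epsL_insW, counit_La, TM.map_tm, epsL_tm, TM.tm_k]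
  rfl

/-! comultiplication -/

/-- `w ⊗ t ↦ (n ⊗ w) ⊗ t` -/
def insJ (n : N) : W ⊗[k] (O ⊗[k] O) →+ TM κ (TM κ (TM κ N W) O) O :=
  TensorProduct.liftAddHom
    (AddMonoidHom.mk' (fun w => (ins O κ (TM.tm κ n w))) fun w w' => by
      ext t
      change ins O κ (TM.tm κ n (w + w')) t = ins O κ (TM.tm κ n w) t + ins O κ (TM.tm κ n w') t
      rw [TM.tm_add_right, ins_add])
    (fun c w t => by
      change ins O κ (TM.tm κ n (c • w)) t = ins O κ (TM.tm κ n w) (c • t)
      rw [← TM.k_smul_tm, ins_k])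

@[simp] theorem insJ_tmul (n : N) (w : W) (t : O ⊗[k] O) : insJ κ n (w ⊗ₜ[k] t) = ins O κ (TM.tm κ n w) t := rfl

theorem delL_insW (n : N) (z : W ⊗[k] O) :
    delL O κ (TM κ N W) (insW κ n z) = insJ κ n ((Coalgebra.comul (R := k) (A := O)).lTensor W z) := by
  induction z using TensorProduct.induction_on with
  | zero => simp
  | tmul a b => rw [insW_tmul, delL_tm, LinearMap.lTensor_tmul, insJ_tmul]
  | add x y hx hy => rw [map_add, map_add, map_add, map_add, hx, hy]

/-- left multiplication on `W ⊗ (O ⊗ O)` -/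
def ML (t : O ⊗[k] O) : W ⊗[k] (O ⊗[k] O) →ₗ[k] W ⊗[k] (O ⊗[k] O) := (LinearMap.mulLeft k t).lTensor W

@[simp] theorem ML_tmul (t : O ⊗[k] O) (w : W) (x : O ⊗[k] O) : ML t (w ⊗ₜ[k] x) = w ⊗ₜ[k] (t * x) := rfl

theorem ML_add (t t' : O ⊗[k] O) (x : W ⊗[k] (O ⊗[k] O)) : ML (t + t') x = ML t x + ML t' x := by
  induction x using TensorProduct.induction_on with
  | zero => simp
  | tmul w y => rw [ML_tmul, ML_tmul, ML_tmul, add_mul, TensorProduct.tmul_add]
  | add x y hx hy => rw [map_add, map_add, map_add, hx, hy]; abel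

theorem ML_zero (x : W ⊗[k] (O ⊗[k] O)) : ML (0 : O ⊗[k] O) x = 0 := by
  induction x using TensorProduct.induction_on with
  | zero => simp
  | tmul w y => rw [ML_tmul, zero_mul, TensorProduct.tmul_zero]
  | add x y hx hy => rw [map_add, hx, hy, add_zero]

theorem ML_ML (t t' : O ⊗[k] O) (x : W ⊗[k] (O ⊗[k] O)) : ML t (ML t' x) = ML (t * t') x := by
  induction x using TensorProduct.induction_on with
  | zero => simp
  | tmul w y => rw [ML_tmul, ML_tmul, ML_tmul, mul_assoc]
  | add x y hx hy => rw [map_add, map_add, map_add, hx, hy]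

/-- the iterated coaction `W → W ⊗ (O ⊗ O)` on `W ⊗ O` -/
def ro (z : W ⊗[k] O) : W ⊗[k] (O ⊗[k] O) := TensorProduct.assoc k W O O (F.coact.rTensor O z)

theorem ro_add (z z' : W ⊗[k] O) : ro F (z + z') = ro F z + ro F z' := by
  rw [ro, map_add, map_add]; rfl

theorem comul_La (a : O) (w : W) : (Coalgebra.comul (R := k) (A := O)).lTensor W (La F a w) =
    ML (Coalgebra.comul (R := k) a) (ro F (F.coact w)) := by
  have h : ∀ z : W ⊗[k] O, (Coalgebra.comul (R := k) (A := O)).lTensor W ((LinearMap.mulLeft k a).lTensor W z) =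
      ML (Coalgebra.comul (R := k) a) ((Coalgebra.comul (R := k) (A := O)).lTensor W z) := by
    intro z
    induction z using TensorProduct.induction_on with
    | zero => simp
    | tmul x b =>
      rw [LinearMap.lTensor_tmul, LinearMap.lTensor_tmul, LinearMap.lTensor_tmul, LinearMap.mulLeft_apply,
        Bialgebra.comul_mul, ML_tmul]
    | add x y hx hy => rw [map_add, map_add, map_add, map_add, hx, hy]
  have h2 : ro F (F.coact w) = (Coalgebra.comul (R := k) (A := O)).lTensor W (F.coact w) :=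
    LinearMap.congr_fun F.coassoc w
  rw [La, LinearMap.comp_apply, h, h2]

theorem assoc_mul (y : W ⊗[k] O) (a b : O) :
    TensorProduct.assoc k W O O (y ⊗ₜ[k] (a * b)) = ML ((1 : O) ⊗ₜ[k] a) (TensorProduct.assoc k W O O (y ⊗ₜ[k] b)) := by
  induction y using TensorProduct.induction_on with
  | zero => rw [TensorProduct.zero_tmul, TensorProduct.zero_tmul, map_zero, map_zero]
  | tmul w c =>
    rw [TensorProduct.assoc_tmul, TensorProduct.assoc_tmul, ML_tmul, Algebra.TensorProduct.tmul_mul_tmul, one_mul]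
  | add x y hx hy =>
    rw [TensorProduct.add_tmul, TensorProduct.add_tmul, map_add, map_add, map_add, hx, hy]

theorem ro_mul (a : O) (z : W ⊗[k] O) :
    ro F ((LinearMap.mulLeft k a).lTensor W z) = ML ((1 : O) ⊗ₜ[k] a) (ro F z) := by
  induction z using TensorProduct.induction_on with
  | zero => simp [ro]
  | tmul w b =>
    rw [LinearMap.lTensor_tmul, LinearMap.mulLeft_apply, ro, ro, LinearMap.rTensor_tmul, LinearMap.rTensor_tmul,
      assoc_mul]
  | add x y hx hy => rw [map_add, ro_add, ro_add, map_add, hx, hy]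

theorem tm_insW (n : N) (a : O) (y : W ⊗[k] O) (b : O) :
    TM.tm κ (insW κ n ((LinearMap.mulLeft k a).lTensor W y)) b =
      insJ κ n (ML (a ⊗ₜ[k] (1 : O)) (TensorProduct.assoc k W O O (y ⊗ₜ[k] b))) := by
  induction y using TensorProduct.induction_on with
  | zero => rw [map_zero, map_zero, TM.tm_zero_left, TensorProduct.zero_tmul, map_zero, map_zero, map_zero]
  | tmul w c =>
    rw [LinearMap.lTensor_tmul, LinearMap.mulLeft_apply, insW_tmul, TensorProduct.assoc_tmul, ML_tmul,
      Algebra.TensorProduct.tmul_mul_tmul, one_mul, insJ_tmul, ins_tmul]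
  | add x y hx hy =>
    rw [map_add, map_add, TM.tm_add_left, hx, hy, TensorProduct.add_tmul, map_add, map_add, map_add]

theorem map_thL_insW (n : N) (a : O) (z : W ⊗[k] O) :
    TM.map κ (thL κ N F) (LinearMap.id : O →ₗ[k] O) (insW κ (TM.tm κ n a) z) =
      insJ κ n (ML (a ⊗ₜ[k] (1 : O)) (ro F z)) := by
  induction z using TensorProduct.induction_on with
  | zero => simp [ro]
  | tmul w b =>
    rw [insW_tmul, TM.map_tm, thL_tm, ro, LinearMap.rTensor_tmul]
    exact tm_insW κ n a (F.coact w) b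
  | add x y hx hy => rw [map_add, map_add, hx, hy, ro_add, map_add, map_add]

theorem map_thL_thL (n : N) (t : O ⊗[k] O) (w : W) :
    TM.map κ (thL κ N F) (LinearMap.id : O →ₗ[k] O) (thL κ (TM κ N O) F (TM.tm κ (ins O κ n t) w)) =
      insJ κ n (ML t (ro F (F.coact w))) := by
  induction t using TensorProduct.induction_on with
  | zero => rw [map_zero, TM.tm_zero_left, map_zero, map_zero, ML_zero, map_zero]
  | tmul a b =>
    rw [ins_tmul, thL_tm, map_thL_insW, La, LinearMap.comp_apply, ro_mul, ML_ML,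
      Algebra.TensorProduct.tmul_mul_tmul, mul_one, one_mul]
  | add x y hx hy => rw [map_add, TM.tm_add_left, map_add, map_add, hx, hy, ML_add, map_add]

theorem thL_del (x : TM κ (TM κ N O) W) :
    delL O κ (TM κ N W) (thL κ N F x) =
      TM.map κ (thL κ N F) (LinearMap.id : O →ₗ[k] O) (thL κ (TM κ N O) F
        (TM.map κ (delL O κ N) (LinearMap.id : W →ₗ[k] W) x)) := by
  refine DFunLike.congr_fun (ext2 κ (f := (delL O κ (TM κ N W) ∘ₗ thL κ N F).toAddMonoidHom)
    (g := (TM.map κ (thL κ N F) (LinearMap.id : O →ₗ[k] O) ∘ₗ thL κ (TM κ N O) F ∘ₗ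
      TM.map κ (delL O κ N) (LinearMap.id : W →ₗ[k] W)).toAddMonoidHom) fun n a w => ?_) x
  change delL O κ (TM κ N W) (thL κ N F (TM.tm κ (TM.tm κ n a) w)) =
    TM.map κ (thL κ N F) (LinearMap.id : O →ₗ[k] O) (thL κ (TM κ N O) F
      (TM.map κ (delL O κ N) (LinearMap.id : W →ₗ[k] W) (TM.tm κ (TM.tm κ n a) w)))
  rw [thL_tm, delL_insW, comul_La, TM.map_tm, delL_tm]
  exact (map_thL_thL κ F n _ w).symm

/-! functoriality in the comodule -/

variable {W' : Type u} [AddCommGroup W'] [Module k W'] (F' : HopfRep.Comod k O W')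

theorem La_nat (g : W →ₗ[k] W') (hg : ∀ w, F'.coact (g w) = g.rTensor O (F.coact w)) (a : O) (w : W) :
    La F' a (g w) = g.rTensor O (La F a w) := by
  rw [La, La, LinearMap.comp_apply, LinearMap.comp_apply, hg]
  exact LinearMap.congr_fun ((LinearMap.lTensor_comp_rTensor _ _ _).trans (LinearMap.rTensor_comp_lTensor _ _ _).symm) _

theorem thL_tw (g : W →ₗ[k] W') (hg : ∀ w, F'.coact (g w) = g.rTensor O (F.coact w)) (x : TM κ (TM κ N O) W) :
    thL κ N F' (TM.map κ (LinearMap.id : TM κ N O →ₗ[R] TM κ N O) g x) =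
      TM.map κ (TM.map κ (LinearMap.id : N →ₗ[R] N) g) (LinearMap.id : O →ₗ[k] O) (thL κ N F x) := by
  refine DFunLike.congr_fun (ext2 κ
    (f := (thL κ N F' ∘ₗ TM.map κ (LinearMap.id : TM κ N O →ₗ[R] TM κ N O) g).toAddMonoidHom)
    (g := (TM.map κ (TM.map κ (LinearMap.id : N →ₗ[R] N) g) (LinearMap.id : O →ₗ[k] O) ∘ₗ
      thL κ N F).toAddMonoidHom) fun n a w => ?_) x
  change thL κ N F' (TM.map κ (LinearMap.id : TM κ N O →ₗ[R] TM κ N O) g (TM.tm κ (TM.tm κ n a) w)) =
    TM.map κ (TM.map κ (LinearMap.id : N →ₗ[R] N) g) (LinearMap.id : O →ₗ[k] O)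
      (thL κ N F (TM.tm κ (TM.tm κ n a) w))
  rw [TM.map_tm, thL_tm, insW_map]
  refine (thL_tm κ F' n a (g w)).trans ?_
  rw [La_nat F F' g hg]
  rfl

end level

section comod

variable {k : Type u} [CommRing k] {A : NFᵒᵖ ⥤ CommRingCat.{u}} (s : KS k A)
variable {O : Type u} [CommRing O] [Bialgebra k O]
variable {W : Type u} [AddCommGroup W] [Module k W] (F : HopfRep.Comod k O W)
variable {W' : Type u} [AddCommGroup W'] [Module k W'] (F' : HopfRep.Comod k O W')
variable {W'' : Type u} [AddCommGroup W''] [Module k W''] (F'' : HopfRep.Comod k O W'')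

/-- `thL` on presheaves of modules -/
def thP (M : PresheafOfModules.{u} (rf A)) : tensPobj s (tensPobj s M O) W ⟶ tensPobj s (tensPobj s M W) O :=
  mkHom (M := tensPobj s (tensPobj s M O) W) (N := tensPobj s (tensPobj s M W) O)
    (fun X => thL (s.κ X) (M.obj X) F)
    fun {X Y} φ x => thL_smap (s.κ X) F (s.κ Y) (A.map φ).hom (s.nat φ) (pmap M φ) (pmap_smul M φ) x

/-- the lifting of `- ⊗ W` to the coalgebras -/
def thC : CoLift (GO s O) (tensC s W) where
  θ N := ObjectProperty.homMk (thP s F N.obj)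
  nat {M N} f := by
    apply ObjectProperty.hom_ext
    refine phom_ext fun X x => ?_
    exact thL_map (s.κ X) F (lv f.hom X) x
  eps N := by
    apply ObjectProperty.hom_ext
    refine phom_ext fun X x => ?_
    exact thL_eps (s.κ X) F x
  del N := by
    apply ObjectProperty.hom_ext
    refine phom_ext fun X x => ?_
    exact thL_del (s.κ X) F x

/-- **the twist by the comodule `W`** -/
def tw : (GO s O).Coalgebra ⥤ (GO s O).Coalgebra := (thC s F).lift

/-- `forget (tw F M) = M ⊗ W` -/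
def twForget : tw s F ⋙ (GO s O).forget ≅ (GO s O).forget ⋙ tensC s W := Iso.refl _

theorem tw_obj_A (M : (GO s O).Coalgebra) : ((tw s F).obj M).A = (tensC s W).obj M.A := rfl

theorem tw_map_f {M N : (GO s O).Coalgebra} (f : M ⟶ N) : ((tw s F).map f).f = (tensC s W).map f.f := rfl

/-- the structure map of the twist at a level -/
theorem tw_a_tm (M : (GO s O).Coalgebra) (X : NFᵒᵖ) (m : M.A.obj.obj X) (w : W) :
    lv ((tw s F).obj M).a.hom X (TM.tm (s.κ X) m w) =
      thL (s.κ X) (M.A.obj.obj X) F (TM.tm (s.κ X) (lv M.a.hom X m) w) := by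
  exact congrArg (fun y => thL (s.κ X) (M.A.obj.obj X) F y)
    (tensPmap_tm s M.a.hom (LinearMap.id : W →ₗ[k] W) X m w)

theorem compat_tensMap (g : W →ₗ[k] W') (hg : ∀ w, F'.coact (g w) = g.rTensor O (F.coact w)) :
    CoLift.Compat (thC s F) (thC s F') (tensMap s g) := fun N => by
  apply ObjectProperty.hom_ext
  refine phom_ext fun X x => ?_
  exact thL_tw (s.κ X) F F' g hg x

/-- functoriality of the twist in the comodule -/
def twMap (g : W →ₗ[k] W') (hg : ∀ w, F'.coact (g w) = g.rTensor O (F.coact w)) : tw s F ⟶ tw s F' :=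
  CoLift.hom (tensMap s g) (compat_tensMap s F F' g hg)

theorem twMap_app_f (g : W →ₗ[k] W') (hg : ∀ w, F'.coact (g w) = g.rTensor O (F.coact w))
    (M : (GO s O).Coalgebra) : ((twMap s F F' g hg).app M).f = (tensMap s g).app M.A := rfl

theorem tensMap_id : tensMap s (LinearMap.id : W →ₗ[k] W) = 𝟙 (tensC s W) := by
  apply NatTrans.ext
  funext N
  apply ObjectProperty.hom_ext
  refine tens_ext s fun X m w => ?_
  exact tensPmap_tm s (𝟙 N.obj) (LinearMap.id : W →ₗ[k] W) X m w

theorem tensMap_comp (g : W →ₗ[k] W') (g' : W' →ₗ[k] W'') :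
    tensMap s (g' ∘ₗ g) = tensMap s g ≫ tensMap s g' := by
  apply NatTrans.ext
  funext N
  apply ObjectProperty.hom_ext
  refine tens_ext s fun X m w => ?_
  refine (tensPmap_tm s (𝟙 N.obj) (g' ∘ₗ g) X m w).trans ?_
  refine Eq.symm ((congrArg (lv (tensPmap s (𝟙 N.obj) g') X) (tensPmap_tm s (𝟙 N.obj) g X m w)).trans ?_)
  exact tensPmap_tm s (𝟙 N.obj) g' X _ _

theorem twMap_id : twMap s F F (LinearMap.id : W →ₗ[k] W) (fun w => by rw [LinearMap.rTensor_id]; rfl) =
    𝟙 (tw s F) :=
  (CoLift.hom_congr (tensMap_id s) _ CoLift.compat_id).trans CoLift.hom_id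

theorem twMap_comp (g : W →ₗ[k] W') (hg : ∀ w, F'.coact (g w) = g.rTensor O (F.coact w))
    (g' : W' →ₗ[k] W'') (hg' : ∀ w, F''.coact (g' w) = g'.rTensor O (F'.coact w)) :
    twMap s F F' g hg ≫ twMap s F' F'' g' hg' = twMap s F F'' (g' ∘ₗ g) (fun w => by
      rw [LinearMap.comp_apply, hg', hg, LinearMap.rTensor_comp, LinearMap.comp_apply]) :=
  ((CoLift.hom_congr (tensMap_comp s g g') _ (CoLift.compat_comp (compat_tensMap s F F' g hg)
    (compat_tensMap s F' F'' g' hg'))).trans (CoLift.hom_comp _ _)).symm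

end comod

end Groth.Agent.ResProp.EF.K573
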